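import Groth.Agent.L27.Hom.ExtAdj
import Groth.Agent.L28.LocCoh.Shift

/-! # Truncated comparison of `Ext` along an adjunction

If `R^q F = 0` for `0 < q ≤ m` then `Ext^k(A, R F) → Ext^k(L A, F)` is bijective for `k ≤ m` and injective for
`k = m + 1`; if in addition it is bijective for `k = m + 1` and injective for `k = m + 2` then every map
`A ⟶ R^{m+1} F` is zero. -/

universe w w' v v' u u'

open CategoryTheory CategoryTheory.Limits CategoryTheory.Abelian

set_option backward.isDefEq.respectTransparency false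
set_option backward.defeqAttrib.useBackward true
set_option linter.style.haveILetI false
set_option linter.unusedSectionVars false

namespace Groth.L28.Leray

open Groth.L27.ExtAdj

variable {C : Type u} [Category.{v} C] [Abelian C] {D : Type u'} [Category.{v'} D] [Abelian D]
  [HasExt.{w} C] [HasExt.{w'} D] {L : C ⥤ D} {R : D ⥤ C} [L.Additive] [PreservesFiniteLimits L]
  [PreservesFiniteColimits L] (adj : L ⊣ R) {A : C} [R.Additive]

/-- compatibility with connecting classes, for a sequence mapping to `R` of a short exact sequence -/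
theorem phi_comp_extClass' {S : ShortComplex D} (hS : S.ShortExact) {Q : C} (p : R.obj S.X₂ ⟶ Q)
    (i : Q ⟶ R.obj S.X₃) (hp : R.map S.f ≫ p = 0) (hpi : p ≫ i = R.map S.g)
    (hT : (ShortComplex.mk (R.map S.f) p hp).ShortExact) (n : ℕ) (e : Ext.{w} A Q n) :
    phi.{w, w'} adj A S.X₁ (n + 1) (e.comp hT.extClass rfl) =
      (phi.{w, w'} adj A S.X₃ n (e.comp (Ext.mk₀ i) (add_zero n))).comp hS.extClass rfl := by
  let f : (ShortComplex.mk (R.map S.f) p hp).map L ⟶ S :=
    { τ₁ := adj.counit.app _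
      τ₂ := adj.counit.app _
      τ₃ := L.map i ≫ adj.counit.app _
      comm₁₂ := (adj.counit_naturality S.f).symm
      comm₂₃ := (adj.counit_naturality S.g).symm.trans (by
        change L.map (R.map S.g) ≫ _ = L.map p ≫ L.map i ≫ _
        rw [← L.map_comp_assoc, hpi]) }
  have hn := ShortComplex.ShortExact.extClass_naturality (hT.map_of_exact L) hS f
  rw [phi, phi, Ext.mapExactFunctor_comp, Ext.mapExactFunctor_extClass]
  refine (Ext.comp_assoc_of_third_deg_zero _ _ _ _).trans ?_
  refine (congrArg (fun r => (e.mapExactFunctor L).comp r rfl) hn).trans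
    ((Ext.comp_assoc_of_second_deg_zero _ _ _ _).symm.trans ?_)
  refine congrArg (fun r : Ext.{w'} (L.obj A) S.X₃ n => r.comp hS.extClass rfl) ?_
  rw [Ext.mapExactFunctor_comp, Ext.mapExactFunctor_mk₀, Ext.comp_assoc_of_third_deg_zero, Ext.mk₀_comp_mk₀]

theorem phi_zero (F : D) (n : ℕ) : phi.{w, w'} adj A F n 0 = 0 := by
  rw [phi, Ext.mapExactFunctor_zero, Ext.zero_comp]

theorem phi_sub (F : D) (n : ℕ) (x y : Ext.{w} A (R.obj F) n) :
    phi.{w, w'} adj A F n (x - y) = phi adj A F n x - phi adj A F n y := by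
  rw [eq_sub_iff_add_eq]
  conv_lhs => rw [phi, phi, ← Ext.add_comp, ← Ext.mapExactFunctor_add, sub_add_cancel]
  rfl

theorem injective_phi_of_forall (F : D) (n : ℕ) (h : ∀ x, phi.{w, w'} adj A F n x = 0 → x = 0) :
    Function.Injective (phi.{w, w'} adj A F n) := fun x y e => sub_eq_zero.1 (h _ (by rw [phi_sub, e, sub_self]))

theorem bijective_phi_zero (F : D) : Function.Bijective (phi.{w, w'} adj A F 0) := by
  refine ⟨fun x y h => ?_, fun y => ?_⟩
  · obtain ⟨a, rfl⟩ := (Ext.mk₀_bijective _ _).2 x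
    obtain ⟨b, rfl⟩ := (Ext.mk₀_bijective _ _).2 y
    rw [phi_mk₀, phi_mk₀] at h
    rw [(adj.homEquiv _ _).symm.injective ((Ext.mk₀_bijective _ _).1 h)]
  · obtain ⟨b, rfl⟩ := (Ext.mk₀_bijective _ _).2 y
    exact ⟨Ext.mk₀ (adj.homEquiv _ _ b), by rw [phi_mk₀, Equiv.symm_apply_apply]⟩

variable [EnoughInjectives D] [PreservesFiniteLimits R]

/-- the first right derived functor, and injectivity in degree one -/
theorem degree_one (F : D) :
    Function.Injective (phi.{w, w'} adj A F 1) ∧
      (Function.Bijective (phi.{w, w'} adj A F 1) → Function.Injective (phi.{w, w'} adj A F 2) →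
        ∀ a : A ⟶ (R.rightDerived 1).obj F, a = 0) := by
  let I := Injective.under F
  let S : ShortComplex D := ShortComplex.mk (Injective.ι F) (cokernel.π (Injective.ι F)) (cokernel.condition _)
  have hS : S.ShortExact := { exact := ShortComplex.exact_of_g_is_cokernel _ (cokernelIsCokernel _) }
  haveI : Injective S.X₂ := inferInstanceAs (Injective I)
  haveI := hS.mono_f
  haveI : Injective (R.obj S.X₂) := Injective.injective_of_adjoint adj I
  let p : R.obj S.X₂ ⟶ cokernel (R.map S.f) := cokernel.π _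
  let i : cokernel (R.map S.f) ⟶ R.obj S.X₃ := cokernel.desc _ (R.map S.g) (by rw [← R.map_comp, S.zero, R.map_zero])
  have hp : R.map S.f ≫ p = 0 := cokernel.condition _
  have hpi : p ≫ i = R.map S.g := cokernel.π_desc _ _ _
  have hT : (ShortComplex.mk (R.map S.f) p hp).ShortExact :=
    { exact := ShortComplex.exact_of_g_is_cokernel _ (cokernelIsCokernel _) }
  haveI : Mono i := ShortComplex.exact_iff_mono_cokernel_desc (S.map R) |>.1
    (hS.exact.map_of_mono_of_preservesKernel R inferInstance inferInstance)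
  have h0C := bijective_phi_zero.{w, w'} adj (A := A) S.X₃
  have h0I := bijective_phi_zero.{w, w'} adj (A := A) S.X₂
  refine ⟨injective_phi_of_forall adj F 1 fun x hx => ?_, fun hb hinj a => ?_⟩
  · obtain ⟨z, rfl⟩ := Ext.covariant_sequence_exact₁ A hT x (Ext.eq_zero_of_injective _) rfl
    change phi adj A S.X₁ _ _ = 0 at hx
    rw [phi_comp_extClass' adj hS p i hp hpi hT] at hx
    obtain ⟨w₀, hw⟩ := Ext.covariant_sequence_exact₃ (L.obj A) hS _ rfl hx
    obtain ⟨t, rfl⟩ := h0I.2 w₀
    rw [← phi_comp_map adj S.g 0 t] at hw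
    obtain ⟨z₀, rfl⟩ := (Ext.mk₀_bijective _ _).2 z
    obtain ⟨t₀, rfl⟩ := (Ext.mk₀_bijective _ _).2 t
    have e := h0C.1 hw
    rw [Ext.mk₀_comp_mk₀, Ext.mk₀_comp_mk₀] at e
    have e' : t₀ ≫ p = z₀ := (cancel_mono i).1 (by
      rw [Category.assoc, hpi]; exact (Ext.mk₀_bijective _ _).1 e)
    rw [← e', ← Ext.mk₀_comp_mk₀, Ext.comp_assoc_of_second_deg_zero]
    exact (congrArg (fun r => (Ext.mk₀ t₀).comp r rfl) hT.comp_extClass).trans (Ext.comp_zero _ _ _ _ _)
  · obtain ⟨e₁⟩ := LocCoh.nonempty_cokernel_zero_iso R hS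
    let e₂ : cokernel i ≅ cokernel (R.map S.g) :=
      (cokernelEpiComp p i).symm ≪≫ cokernelIsoOfEq hpi
    let T₂ : ShortComplex C := ShortComplex.mk i (cokernel.π i) (cokernel.condition _)
    have hT₂ : T₂.ShortExact := { exact := ShortComplex.exact_of_g_is_cokernel _ (cokernelIsCokernel _) }
    suffices a ≫ e₁.inv ≫ e₂.inv = 0 by
      have h3 := congrArg (· ≫ e₂.hom ≫ e₁.hom) this
      simpa using h3
    generalize a ≫ e₁.inv ≫ e₂.inv = b
    let z : Ext.{w} A (cokernel (R.map S.f)) 1 := (Ext.mk₀ b).comp hT₂.extClass (zero_add 1)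
    have hzi : z.comp (Ext.mk₀ i) (add_zero 1) = 0 := by
      refine (Ext.comp_assoc_of_third_deg_zero _ _ _ _).trans ?_
      exact (congrArg (fun r => (Ext.mk₀ b).comp r _) hT₂.extClass_comp).trans (Ext.comp_zero _ _ _ _ _)
    have hz2 : z.comp hT.extClass (rfl : 1 + 1 = 2) = 0 := by
      refine hinj ?_
      show phi adj A S.X₁ _ _ = phi adj A S.X₁ _ 0
      rw [phi_comp_extClass' adj hS p i hp hpi hT, hzi, phi_zero, phi_zero, Ext.zero_comp]
    obtain ⟨t, ht⟩ := Ext.covariant_sequence_exact₃ A hT z rfl hz2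
    have hz : (Ext.mk₀ b).comp hT₂.extClass (zero_add 1) = 0 := by
      show z = 0
      rw [← ht, Ext.eq_zero_of_injective t, Ext.zero_comp]
    obtain ⟨c, hc⟩ := Ext.covariant_sequence_exact₃ A hT₂ (Ext.mk₀ b) (zero_add 1) hz
    obtain ⟨c, rfl⟩ := (Ext.mk₀_bijective _ _).2 c
    rw [Ext.mk₀_comp_mk₀] at hc
    have hcb : c ≫ cokernel.π i = b := (Ext.mk₀_bijective _ _).1 hc
    obtain ⟨x, hx⟩ := hb.2 ((phi adj A S.X₃ 0 (Ext.mk₀ c)).comp hS.extClass (zero_add 1))
    obtain ⟨z', rfl⟩ := Ext.covariant_sequence_exact₁ A hT x (Ext.eq_zero_of_injective _) rfl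
    change phi adj A S.X₁ _ _ = _ at hx
    rw [phi_comp_extClass' adj hS p i hp hpi hT] at hx
    obtain ⟨w₀, hw⟩ := Ext.covariant_sequence_exact₃ (L.obj A) hS
      (phi adj A S.X₃ 0 (Ext.mk₀ c) - phi adj A S.X₃ 0 (z'.comp (Ext.mk₀ i) (add_zero 0))) rfl
      (by rw [sub_eq_add_neg, Ext.add_comp, Ext.neg_comp, hx, add_neg_cancel])
    obtain ⟨t, rfl⟩ := h0I.2 w₀
    rw [← phi_comp_map adj S.g 0 t, ← phi_sub] at hw
    obtain ⟨z₀, rfl⟩ := (Ext.mk₀_bijective _ _).2 z'
    obtain ⟨t₀, rfl⟩ := (Ext.mk₀_bijective _ _).2 t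
    have e := h0C.1 hw
    rw [Ext.mk₀_comp_mk₀, Ext.mk₀_comp_mk₀] at e
    have e' : c = (t₀ ≫ p + z₀) ≫ i := by
      apply (Ext.mk₀_bijective _ _).1
      rw [Preadditive.add_comp, Category.assoc, hpi, Ext.mk₀_add, e, sub_add_cancel]
    rw [← hcb, e', Category.assoc, cokernel.condition, comp_zero]

/-- `R^q F = 0` for `0 < q ≤ m` gives bijectivity up to `m` and injectivity in `m + 1`. -/
theorem bijective_phi_of_le (m : ℕ) :
    ∀ F : D, (∀ q : ℕ, 0 < q → q ≤ m → IsZero ((R.rightDerived q).obj F)) →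
      (∀ k : ℕ, k ≤ m → Function.Bijective (phi.{w, w'} adj A F k)) ∧
        Function.Injective (phi.{w, w'} adj A F (m + 1)) := by
  induction m with
  | zero =>
    intro F _
    exact ⟨fun k hk => by obtain rfl : k = 0 := (Nat.le_zero.1 hk); exact bijective_phi_zero adj F,
      (degree_one adj F).1⟩
  | succ m ih =>
    intro F hF
    obtain ⟨hle, hinj⟩ := ih F fun q h1 h2 => hF q h1 (by omega)
    let : HasDerivedCategory D := HasDerivedCategory.standard D
    let I := Injective.under F
    let S : ShortComplex D := ShortComplex.mk (Injective.ι F) (cokernel.π (Injective.ι F)) (cokernel.condition _)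
    have hS : S.ShortExact := { exact := ShortComplex.exact_of_g_is_cokernel _ (cokernelIsCokernel _) }
    have hI : ∀ q : ℕ, 0 < q → IsZero ((R.rightDerived q).obj I) := fun q hq => by
      obtain ⟨q, rfl⟩ := Nat.exists_eq_succ_of_ne_zero hq.ne'
      exact R.isZero_rightDerived_obj_injective_succ q I
    have hC : ∀ q : ℕ, 0 < q → q ≤ m → IsZero ((R.rightDerived q).obj S.X₃) := fun q h1 h2 => by
      have := Groth.L00.RDerLES.epi_map_g R hS q (hF (q + 1) (by omega) (by omega))
      exact IsZero.of_epi ((R.rightDerived q).map S.g) (hI q h1)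
    have hepi : Epi (R.map S.g) := by
      have := Groth.L00.RDerLES.epi_map_g R hS 0 (hF 1 (by omega) (by omega))
      rw [← NatIso.naturality_1 R.rightDerivedZeroIsoSelf S.g]
      infer_instance
    have := hS.mono_f
    have hRS : (S.map R).ShortExact :=
      { exact := hS.exact.map_of_mono_of_preservesKernel R inferInstance inferInstance
        mono_f := inferInstanceAs (Mono (R.map S.f))
        epi_g := hepi }
    haveI : Injective S.X₂ := inferInstanceAs (Injective I)
    have : Injective (S.map R).X₂ := Injective.injective_of_adjoint adj I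
    obtain ⟨hCle, hCinj⟩ := ih S.X₃ hC
    refine ⟨fun k hk => ?_, injective_phi_of_forall adj F _ fun x hx => ?_⟩
    · rcases Nat.eq_or_lt_of_le hk with rfl | hk
      · refine ⟨hinj, fun y => ?_⟩
        obtain ⟨z, rfl⟩ := Ext.covariant_sequence_exact₁ (L.obj A) hS y (Ext.eq_zero_of_injective _) rfl
        obtain ⟨t, rfl⟩ := (hCle m le_rfl).2 z
        exact ⟨t.comp hRS.extClass rfl, phi_comp_extClass adj hS hRS m t⟩
      · exact hle k (by omega)
    · obtain ⟨z, rfl⟩ := Ext.covariant_sequence_exact₁ A hRS x (Ext.eq_zero_of_injective _) rfl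
      change phi adj A S.X₁ _ _ = 0 at hx
      rw [phi_comp_extClass adj hS] at hx
      obtain ⟨w₀, hw⟩ := Ext.covariant_sequence_exact₃ (L.obj A) hS _ rfl hx
      rw [Ext.eq_zero_of_injective w₀, Ext.zero_comp] at hw
      rw [hCinj (hw.symm.trans (phi_zero adj S.X₃ (m + 1)).symm), Ext.zero_comp]

/-- Bijectivity in degree `m + 1` and injectivity in degree `m + 2` kill the maps to `R^{m+1} F`. -/
theorem hom_eq_zero (m : ℕ) :
    ∀ F : D, (∀ q : ℕ, 0 < q → q ≤ m → IsZero ((R.rightDerived q).obj F)) →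
      Function.Bijective (phi.{w, w'} adj A F (m + 1)) → Function.Injective (phi.{w, w'} adj A F (m + 2)) →
        ∀ a : A ⟶ (R.rightDerived (m + 1)).obj F, a = 0 := by
  induction m with
  | zero => exact fun F _ => (degree_one adj F).2
  | succ m ih =>
    intro F hF hb hinj a
    let : HasDerivedCategory D := HasDerivedCategory.standard D
    let I := Injective.under F
    let S : ShortComplex D := ShortComplex.mk (Injective.ι F) (cokernel.π (Injective.ι F)) (cokernel.condition _)
    have hS : S.ShortExact := { exact := ShortComplex.exact_of_g_is_cokernel _ (cokernelIsCokernel _) }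
    have hI : ∀ q : ℕ, 0 < q → IsZero ((R.rightDerived q).obj I) := fun q hq => by
      obtain ⟨q, rfl⟩ := Nat.exists_eq_succ_of_ne_zero hq.ne'
      exact R.isZero_rightDerived_obj_injective_succ q I
    have hC : ∀ q : ℕ, 0 < q → q ≤ m → IsZero ((R.rightDerived q).obj S.X₃) := fun q h1 h2 => by
      have := Groth.L00.RDerLES.epi_map_g R hS q (hF (q + 1) (by omega) (by omega))
      exact IsZero.of_epi ((R.rightDerived q).map S.g) (hI q h1)
    have hepi : Epi (R.map S.g) := by
      have := Groth.L00.RDerLES.epi_map_g R hS 0 (hF 1 (by omega) (by omega))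
      rw [← NatIso.naturality_1 R.rightDerivedZeroIsoSelf S.g]
      infer_instance
    have := hS.mono_f
    have hRS : (S.map R).ShortExact :=
      { exact := hS.exact.map_of_mono_of_preservesKernel R inferInstance inferInstance
        mono_f := inferInstanceAs (Mono (R.map S.f))
        epi_g := hepi }
    haveI : Injective S.X₂ := inferInstanceAs (Injective I)
    have : Injective (S.map R).X₂ := Injective.injective_of_adjoint adj I
    have hbC : Function.Bijective (phi.{w, w'} adj A S.X₃ (m + 1)) := by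
      refine ⟨injective_phi_of_forall adj S.X₃ _ fun x hx => ?_, fun y => ?_⟩
      · have h1 : x.comp hRS.extClass (rfl : m + 1 + 1 = m + 2) = 0 := hb.1 (by
          change phi adj A S.X₁ _ _ = phi adj A S.X₁ _ 0
          rw [phi_comp_extClass adj hS hRS, hx, Ext.zero_comp, phi_zero])
        obtain ⟨t, rfl⟩ := Ext.covariant_sequence_exact₃ A hRS x rfl h1
        rw [Ext.eq_zero_of_injective t, Ext.zero_comp]
      · obtain ⟨x, hx⟩ := hb.2 (y.comp hS.extClass rfl)
        obtain ⟨z, rfl⟩ := Ext.covariant_sequence_exact₁ A hRS x (Ext.eq_zero_of_injective _) rfl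
        change phi adj A S.X₁ _ _ = _ at hx
        rw [phi_comp_extClass adj hS hRS] at hx
        obtain ⟨t, ht⟩ := Ext.covariant_sequence_exact₃ (L.obj A) hS (phi adj A S.X₃ _ z - y) rfl (by
          rw [sub_eq_add_neg, Ext.add_comp, Ext.neg_comp, hx, add_neg_cancel])
        rw [Ext.eq_zero_of_injective t, Ext.zero_comp] at ht
        exact ⟨z, sub_eq_zero.1 ht.symm⟩
    have hiC : Function.Injective (phi.{w, w'} adj A S.X₃ (m + 2)) :=
      injective_phi_of_forall adj S.X₃ _ fun x hx => by
      have h1 : x.comp hRS.extClass (rfl : m + 2 + 1 = m + 3) = 0 := hinj (by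
        change phi adj A S.X₁ _ _ = phi adj A S.X₁ _ 0
        rw [phi_comp_extClass adj hS hRS, hx, Ext.zero_comp, phi_zero])
      obtain ⟨t, rfl⟩ := Ext.covariant_sequence_exact₃ A hRS x rfl h1
      rw [Ext.eq_zero_of_injective t, Ext.zero_comp]
    obtain ⟨e⟩ := LocCoh.nonempty_succ_iso R hS m
    have := ih S.X₃ hC hbC hiC (a ≫ e.inv)
    simpa using congrArg (· ≫ e.hom) this

end Groth.L28.Leray
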